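import Groth.Agent.SGA4h.K557.BcHom

/-!
# The connecting map `Ψ Q ⟶ R¹Ψ G` as a cokernel
-/

set_option autoImplicit false
set_option backward.isDefEq.respectTransparency false
universe v₁ v₂ u₁ u₂

open CategoryTheory CategoryTheory.Limits

namespace Groth.Agent.Pi1.K344.ConnAbs

open Groth.Agent.Localalg.DeltaFun K557.BcAbs

variable {A : Type u₁} [Category.{v₁} A] [Abelian A] [EnoughInjectives A]
  {B : Type u₂} [Category.{v₂} B] [Abelian B] (Ψ : A ⥤ B) [Ψ.Additive] [PreservesFiniteLimits Ψ]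

omit [PreservesFiniteLimits Ψ] in
theorem map_comp {S : ShortComplex A} (hS : S.ShortExact) :
    Ψ.map S.g ≫ Ψ.toRightDerivedZero.app S.X₃ ≫ (chainD Ψ).δ hS 0 = 0 := by
  have h1 : Ψ.map S.g ≫ Ψ.toRightDerivedZero.app S.X₃ =
      Ψ.toRightDerivedZero.app S.X₂ ≫ (Ψ.rightDerived 0).map S.g := Ψ.toRightDerivedZero.naturality S.g
  have h2 : (Ψ.rightDerived 0).map S.g ≫ (chainD Ψ).δ hS 0 = 0 := (chainD Ψ).zero₃ hS 0
  calc _ = (Ψ.map S.g ≫ Ψ.toRightDerivedZero.app S.X₃) ≫ (chainD Ψ).δ hS 0 := (Category.assoc _ _ _).symm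
    _ = (Ψ.toRightDerivedZero.app S.X₂ ≫ (Ψ.rightDerived 0).map S.g) ≫ (chainD Ψ).δ hS 0 :=
        congrArg (· ≫ _) h1
    _ = Ψ.toRightDerivedZero.app S.X₂ ≫ (Ψ.rightDerived 0).map S.g ≫ (chainD Ψ).δ hS 0 := Category.assoc _ _ _
    _ = Ψ.toRightDerivedZero.app S.X₂ ≫ 0 := congrArg (_ ≫ ·) h2
    _ = 0 := comp_zero

theorem exact {S : ShortComplex A} (hS : S.ShortExact) :
    (ShortComplex.mk _ _ (map_comp Ψ hS)).Exact := by
  have h0 := (chainD Ψ).exact₃ hS 0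
  have i1 : IsIso (Ψ.toRightDerivedZero.app S.X₂) := inferInstance
  have i2 : IsIso (Ψ.toRightDerivedZero.app S.X₃) := inferInstance
  let e : ShortComplex.mk _ _ (map_comp Ψ hS) ≅ ShortComplex.mk _ _ ((chainD Ψ).zero₃ hS 0) :=
    ShortComplex.isoMk (asIso (Ψ.toRightDerivedZero.app S.X₂))
      (asIso (Ψ.toRightDerivedZero.app S.X₃)) (Iso.refl _)
      (Ψ.toRightDerivedZero.naturality S.g).symm (Category.comp_id _).symm
  exact (ShortComplex.exact_iff_of_iso e).2 h0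

theorem epi {S : ShortComplex A} (hS : S.ShortExact) [Injective S.X₂] :
    Epi (Ψ.toRightDerivedZero.app S.X₃ ≫ (chainD Ψ).δ hS 0) := by
  have h1 : Epi ((chainD Ψ).δ hS 0) := epi_δ (chainD Ψ) hS 0 (chainD_eff Ψ S.X₂ 0)
  have h2 : IsIso (Ψ.toRightDerivedZero.app S.X₃) := inferInstance
  exact epi_comp _ _

end Groth.Agent.Pi1.K344.ConnAbs
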