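import Groth.Agent.Localalg.DeltaFun
import Mathlib.Algebra.Homology.DerivedCategory.Ext.ExactSequences
import Mathlib.Algebra.Homology.DerivedCategory.Ext.EnoughInjectives
import Mathlib.CategoryTheory.Preadditive.Injective.Preserves

/-!
# Lifting sections of `R¹Ψ` in the presence of a multisection of degree prime to the coefficients

* `exists_lift`: `Φ : A' ⥤ A`, `Ψ : A ⥤ B`, `Ψ' : A' ⥤ B` exact, `e : Φ ⋙ Ψ ≅ Ψ'`; `0 → G → I → Q → 0` in `A` with `I`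
  injective and `δ : Ψ Q ⟶ K` the cokernel of `Ψ I ⟶ Ψ Q`.  If `θ : G ⟶ Φ M` has a "trace" `ρ : Ψ' M ⟶ Ψ G` with
  `Ψ θ ≫ e ≫ ρ = d` and `n = 0` on `Ψ G` with `n`, `d` coprime then every `Z ⟶ K` lifts to `Z ⟶ Ψ Q`.
-/

set_option autoImplicit false
universe w v₁ v₂ v₃ u₁ u₂ u₃

open CategoryTheory CategoryTheory.Limits Abelian

namespace Groth.Agent.Pi1.K344.LiftAbs

open Groth.Agent.Localalg.DeltaFun

variable {A : Type u₁} [Category.{v₁} A] [Abelian A]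
  {A' : Type u₂} [Category.{v₂} A'] [Abelian A'] [EnoughInjectives A']
  {B : Type u₃} [Category.{v₃} B] [Abelian B] [HasExt.{w} B]
  {Φ : A' ⥤ A} [Φ.Additive] [Φ.PreservesInjectiveObjects]
  {Ψ : A ⥤ B} [Ψ.Additive] [PreservesFiniteLimits Ψ] [Ψ.PreservesInjectiveObjects]
  {Ψ' : A' ⥤ B} [Ψ'.Additive] [PreservesFiniteLimits Ψ'] [PreservesFiniteColimits Ψ']

omit [Ψ.PreservesInjectiveObjects] [HasExt.{w} B] in
theorem shortExact_kernel {S : ShortComplex A} (hS : S.ShortExact) {K : B} (δ : Ψ.obj S.X₃ ⟶ K)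
    (hz : Ψ.map S.g ≫ δ = 0) (hex : (ShortComplex.mk _ _ hz).Exact) :
    (ShortComplex.mk (Ψ.map S.f) (kernel.lift δ (Ψ.map S.g) hz) (by
      rw [← cancel_mono (kernel.ι δ), Category.assoc, kernel.lift_ι, zero_comp, ← Ψ.map_comp, S.zero,
        Ψ.map_zero])).ShortExact := by
  have := hS.mono_f
  have h1 : (S.map Ψ).Exact := hS.exact.map_of_mono_of_preservesKernel Ψ hS.mono_f inferInstance
  have h2 : Epi (kernel.lift δ (Ψ.map S.g) hz) := ((ShortComplex.mk _ _ hz).exact_iff_epi_kernel_lift).1 hex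
  refine ⟨?_⟩
  let φ : ShortComplex.mk (Ψ.map S.f) (kernel.lift δ (Ψ.map S.g) hz) (by
      rw [← cancel_mono (kernel.ι δ), Category.assoc, kernel.lift_ι, zero_comp, ← Ψ.map_comp, S.zero,
        Ψ.map_zero]) ⟶ S.map Ψ :=
    { τ₁ := 𝟙 _
      τ₂ := 𝟙 _
      τ₃ := kernel.ι δ
      comm₁₂ := (Category.id_comp _).trans (Category.comp_id _).symm
      comm₂₃ := by
        change 𝟙 _ ≫ Ψ.map S.g = kernel.lift δ (Ψ.map S.g) hz ≫ kernel.ι δ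
        rw [kernel.lift_ι, Category.id_comp] }
  have i1 : Epi φ.τ₁ := inferInstanceAs (Epi (𝟙 _))
  have i2 : IsIso φ.τ₂ := inferInstanceAs (IsIso (𝟙 _))
  have i3 : Mono φ.τ₃ := inferInstanceAs (Mono (kernel.ι δ))
  exact (ShortComplex.exact_iff_of_epi_of_isIso_of_mono φ).2 h1

theorem exists_lift (e : Φ ⋙ Ψ ≅ Ψ') {S : ShortComplex A} (hS : S.ShortExact) [Injective S.X₂] {K : B}
    (δ : Ψ.obj S.X₃ ⟶ K) (hz : Ψ.map S.g ≫ δ = 0) (hex : (ShortComplex.mk _ _ hz).Exact) [Epi δ]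
    {M : A'} (θ : S.X₁ ⟶ Φ.obj M) (ρ : Ψ'.obj M ⟶ Ψ.obj S.X₁) (d n : ℕ)
    (hd : Ψ.map θ ≫ e.hom.app M ≫ ρ = d • 𝟙 _) (hn : n • 𝟙 (Ψ.obj S.X₁) = 0) (hc : Nat.Coprime n d)
    {Z : B} (σ : Z ⟶ K) : ∃ τ : Z ⟶ Ψ.obj S.X₃, τ ≫ δ = σ := by
  have hmono := hS.mono_f
  have hepi := hS.epi_g
  have hS' : (injSES M).ShortExact := injSES_shortExact M
  have hinj : Injective (Φ.obj (injSES M).X₂) :=
    Functor.PreservesInjectiveObjects.injective_obj (F := Φ) (inferInstanceAs (Injective (Injective.under M)))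
  let g := Injective.factorThru (θ ≫ Φ.map (injSES M).f) S.f
  have hg : S.f ≫ g = θ ≫ Φ.map (injSES M).f := Injective.comp_factorThru _ _
  let h := hS.exact.desc (g ≫ Φ.map (injSES M).g) (by
    rw [← Category.assoc, hg, Category.assoc, ← Φ.map_comp, (injSES M).zero, Φ.map_zero, comp_zero])
  have hh : S.g ≫ h = g ≫ Φ.map (injSES M).g := hS.exact.g_desc _ _
  have E1 := shortExact_kernel hS δ hz hex
  have E2 : (ShortComplex.mk (kernel.ι δ) δ (kernel.condition δ)).ShortExact :=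
    { exact := ShortComplex.exact_of_f_is_kernel _ (kernelIsKernel δ)
      mono_f := by dsimp; infer_instance
      epi_g := by dsimp; infer_instance }
  have E3 : ((injSES M).map Ψ').ShortExact := hS'.map_of_exact Ψ'
  let φ : ShortComplex.mk (Ψ.map S.f) (kernel.lift δ (Ψ.map S.g) hz) (by
      rw [← cancel_mono (kernel.ι δ), Category.assoc, kernel.lift_ι, zero_comp, ← Ψ.map_comp, S.zero,
        Ψ.map_zero]) ⟶ (injSES M).map Ψ' :=
    { τ₁ := Ψ.map θ ≫ e.hom.app M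
      τ₂ := Ψ.map g ≫ e.hom.app (injSES M).X₂
      τ₃ := kernel.ι δ ≫ Ψ.map h ≫ e.hom.app (injSES M).X₃
      comm₁₂ := by
        have h1 := e.hom.naturality (injSES M).f
        change (Ψ.map θ ≫ e.hom.app M) ≫ Ψ'.map (injSES M).f = Ψ.map S.f ≫ Ψ.map g ≫ e.hom.app (injSES M).X₂
        rw [Category.assoc]
        refine (congrArg (Ψ.map θ ≫ ·) h1.symm).trans ?_
        rw [← Ψ.map_comp_assoc, hg]
        exact (Category.assoc _ _ _).symm.trans (congrArg (· ≫ _) (Ψ.map_comp _ _).symm)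
      comm₂₃ := by
        have h1 := e.hom.naturality (injSES M).g
        change (Ψ.map g ≫ e.hom.app (injSES M).X₂) ≫ Ψ'.map (injSES M).g =
          kernel.lift δ (Ψ.map S.g) hz ≫ kernel.ι δ ≫ Ψ.map h ≫ e.hom.app (injSES M).X₃
        rw [kernel.lift_ι_assoc, Category.assoc]
        refine (congrArg (Ψ.map g ≫ ·) h1.symm).trans ?_
        rw [← Ψ.map_comp_assoc, hh]
        exact (Category.assoc _ _ _).symm.trans (congrArg (· ≫ _) (Ψ.map_comp _ _).symm) }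
  let o₁ : Ext.{w} Z (kernel δ) 1 := (Ext.mk₀ σ).comp E2.extClass (zero_add 1)
  let o₂ : Ext.{w} Z (Ψ.obj S.X₁) 2 := o₁.comp E1.extClass rfl
  -- the image of `o₁` under `τ₃` vanishes
  have h1 : o₁.comp (Ext.mk₀ φ.τ₃) (add_zero 1) = 0 := by
    change ((Ext.mk₀ σ).comp E2.extClass (zero_add 1)).comp
      (Ext.mk₀ (kernel.ι δ ≫ Ψ.map h ≫ e.hom.app (injSES M).X₃)) (add_zero 1) = 0
    rw [← Ext.mk₀_comp_mk₀, ← Ext.comp_assoc_of_third_deg_zero, Ext.comp_assoc_of_third_deg_zero (Ext.mk₀ σ),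
      E2.extClass_comp, Ext.comp_zero, Ext.zero_comp]
  have h2 : o₂.comp (Ext.mk₀ φ.τ₁) (add_zero 2) = 0 := by
    change (o₁.comp E1.extClass rfl).comp (Ext.mk₀ φ.τ₁) (add_zero 2) = 0
    rw [Ext.comp_assoc_of_third_deg_zero, ShortComplex.ShortExact.extClass_naturality E1 E3 φ,
      ← Ext.comp_assoc_of_second_deg_zero, h1, Ext.zero_comp]
  have h3 : d • o₂ = 0 := by
    have h4 : o₂.comp (Ext.mk₀ (d • 𝟙 (Ψ.obj S.X₁))) (add_zero 2) = 0 := by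
      rw [← hd, ← Category.assoc, ← Ext.mk₀_comp_mk₀, ← Ext.comp_assoc_of_third_deg_zero]
      rw [show o₂.comp (Ext.mk₀ (Ψ.map θ ≫ e.hom.app M)) (add_zero 2) = 0 from h2, Ext.zero_comp]
    have h5 : Ext.mk₀ (d • 𝟙 (Ψ.obj S.X₁)) = d • Ext.mk₀ (𝟙 (Ψ.obj S.X₁)) :=
      map_nsmul (Ext.addEquiv₀ (X := Ψ.obj S.X₁) (Y := Ψ.obj S.X₁)).symm d (𝟙 _)
    rw [h5] at h4
    have h6 := map_nsmul (o₂.precomp (Ψ.obj S.X₁) (add_zero 2)) d (Ext.mk₀ (𝟙 (Ψ.obj S.X₁)))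
    have h7 : (o₂.precomp (Ψ.obj S.X₁) (add_zero 2)) (Ext.mk₀ (𝟙 (Ψ.obj S.X₁))) = o₂ := Ext.comp_mk₀_id _
    rw [h7] at h6
    exact h6.symm.trans h4
  have h6 : n • o₂ = 0 := by
    have h5 : Ext.mk₀ (n • 𝟙 (Ψ.obj S.X₁)) = n • Ext.mk₀ (𝟙 (Ψ.obj S.X₁)) :=
      map_nsmul (Ext.addEquiv₀ (X := Ψ.obj S.X₁) (Y := Ψ.obj S.X₁)).symm n (𝟙 _)
    have h7 : n • o₂ = o₂.comp (Ext.mk₀ (n • 𝟙 (Ψ.obj S.X₁))) (add_zero 2) := by
      rw [h5]
      have h6 := map_nsmul (o₂.precomp (Ψ.obj S.X₁) (add_zero 2)) n (Ext.mk₀ (𝟙 (Ψ.obj S.X₁)))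
      have h7 : (o₂.precomp (Ψ.obj S.X₁) (add_zero 2)) (Ext.mk₀ (𝟙 (Ψ.obj S.X₁))) = o₂ := Ext.comp_mk₀_id _
      rw [h7] at h6
      exact h6.symm
    rw [h7, hn, Ext.mk₀_zero, Ext.comp_zero]
  have h8 : o₂ = 0 := by
    have h9 : addOrderOf o₂ ∣ Nat.gcd n d :=
      Nat.dvd_gcd (addOrderOf_dvd_of_nsmul_eq_zero h6) (addOrderOf_dvd_of_nsmul_eq_zero h3)
    rw [hc] at h9
    exact AddMonoid.addOrderOf_eq_one_iff.1 (Nat.dvd_one.1 h9)
  have h10 : o₁ = 0 := by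
    obtain ⟨x, hx⟩ := Ext.covariant_sequence_exact₃ Z E1 o₁ rfl h8
    have hinj2 : Injective (Ψ.obj S.X₂) :=
      Functor.PreservesInjectiveObjects.injective_obj (F := Ψ) inferInstance
    rw [← hx, Ext.eq_zero_of_injective x, Ext.zero_comp]
  obtain ⟨x, hx⟩ := Ext.covariant_sequence_exact₃ Z E2 (Ext.mk₀ σ) (zero_add 1) h10
  obtain ⟨τ, rfl⟩ := (Ext.mk₀_bijective _ _).2 x
  refine ⟨τ, (Ext.mk₀_bijective _ _).1 ?_⟩
  rw [← hx, Ext.mk₀_comp_mk₀]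

end Groth.Agent.Pi1.K344.LiftAbs
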