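import Groth.Agent.Pi1.K344.HpSurj
import Groth.Agent.Pi1.K344.LiftAbs
import Groth.Agent.Pi1.K344.ConnAbs
import Groth.Agent.Sga4A.IntegralSection
import Groth.Agent.Sga4B.Line
import Groth.Agent.S3106

/-!
# Lifting sections of `R¹f_* G` to sections of `f_* (I/G)` using a multisection

* `exists_trace`: `f : P ⟶ T` with `F ≅ f_* f⁻¹ F`, `h : C ⟶ P` with `h ≫ f` finite flat of constant rank `d`; then
  `f_* G ⟶ (h ≫ f)_* h⁻¹ G` (`G ≅ f⁻¹ F`) has a one sided inverse up to `d`.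
* `exists_lift_conn`: the lifting statement.
-/

set_option autoImplicit false
universe u

open CategoryTheory CategoryTheory.Limits AlgebraicGeometry Opposite Abelian

noncomputable section

namespace Groth.Agent.Pi1.K344.PushLift

open K557.BcAbs K557.HpBc Groth.Agent.Localalg.DeltaFun Groth.Agent.Sga4B Groth.Agent.Etcore.HpullCalc
  Groth.Agent.Pi1.K344.HpSurj
open scoped Groth.Agent.Sga4B.EtAbInst Groth.Agent.Etcore.EtInst
open Groth.Agent.Etcore.EtInst

variable {C P T : Scheme.{u}} (h : C ⟶ P) (f : P ⟶ T)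

theorem exists_trace_pull (F : EtCoh.Ab T) (d : ℕ) (hu : IsIso ((EtCoh.pullPushAdj f).unit.app F))
    (Tr : EtCoh.pull (h ≫ f) ⋙ EtCoh.push (h ≫ f) ⟶ 𝟭 (EtCoh.Ab T))
    (hTr : (EtCoh.pullPushAdj (h ≫ f)).unit.app F ≫ Tr.app F = d • 𝟙 F) :
    ∃ ρ : (EtCoh.push (h ≫ f)).obj ((EtCoh.pull h).obj ((EtCoh.pull f).obj F)) ⟶
        (EtCoh.push f).obj ((EtCoh.pull f).obj F),
      (EtCoh.push f).map ((EtCoh.pullPushAdj h).unit.app ((EtCoh.pull f).obj F)) ≫
        (EtCoh.pushComp f h).hom.app ((EtCoh.pull h).obj ((EtCoh.pull f).obj F)) ≫ ρ = d • 𝟙 _ := by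
  refine ⟨(EtCoh.push (h ≫ f)).map ((EtCore.pullComp h f).inv.app F) ≫ Tr.app F ≫
    (EtCoh.pullPushAdj f).unit.app F, ?_⟩
  rw [← cancel_epi ((EtCoh.pullPushAdj f).unit.app F)]
  have h1 := unit_pullComp h f F
  have h2 : (EtCoh.push (h ≫ f)).map ((EtCore.pullComp h f).hom.app F) ≫
      (EtCoh.push (h ≫ f)).map ((EtCore.pullComp h f).inv.app F) = 𝟙 _ := by
    rw [← Functor.map_comp, Iso.hom_inv_id_app, CategoryTheory.Functor.map_id]
  calc _ = ((EtCoh.pullPushAdj f).unit.app F ≫ (EtCoh.push f).map ((EtCoh.pullPushAdj h).unit.app _) ≫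
        (EtCoh.pushComp f h).hom.app _) ≫ (EtCoh.push (h ≫ f)).map ((EtCore.pullComp h f).inv.app F) ≫
          Tr.app F ≫ (EtCoh.pullPushAdj f).unit.app F := by simp only [Category.assoc]
    _ = ((EtCoh.pullPushAdj (h ≫ f)).unit.app F ≫
        (EtCoh.push (h ≫ f)).map ((EtCore.pullComp h f).hom.app F)) ≫
          (EtCoh.push (h ≫ f)).map ((EtCore.pullComp h f).inv.app F) ≫
          Tr.app F ≫ (EtCoh.pullPushAdj f).unit.app F := congrArg (· ≫ _) h1.symm
    _ = (EtCoh.pullPushAdj (h ≫ f)).unit.app F ≫ Tr.app F ≫ (EtCoh.pullPushAdj f).unit.app F := by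
        rw [Category.assoc, reassoc_of% h2]
    _ = (d • 𝟙 F) ≫ (EtCoh.pullPushAdj f).unit.app F := by rw [← Category.assoc, hTr]
    _ = _ := by
        rw [Preadditive.nsmul_comp, Preadditive.comp_nsmul, Category.id_comp]
        exact congrArg (fun x => d • x) (Category.comp_id _).symm

/-- `conn` is the cokernel of `p_* I ⟶ p_* Q`. -/
theorem map_comp_conn {S : ShortComplex (EtCoh.Ab P)} (hS : S.ShortExact) :
    (EtCoh.push f).map S.g ≫ conn f hS = 0 := ConnAbs.map_comp (EtCoh.push f) hS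

theorem exact_conn {S : ShortComplex (EtCoh.Ab P)} (hS : S.ShortExact) :
    (ShortComplex.mk _ _ (map_comp_conn f hS)).Exact := ConnAbs.exact (EtCoh.push f) hS

theorem epi_conn {S : ShortComplex (EtCoh.Ab P)} (hS : S.ShortExact) [Injective S.X₂] :
    Epi (conn f hS) := ConnAbs.epi (EtCoh.push f) hS

theorem exists_lift_conn (F : EtCoh.Ab T) (G : EtCoh.Ab P) (ε : (EtCoh.pull f).obj F ≅ G) (d n : ℕ)
    (hu : IsIso ((EtCoh.pullPushAdj f).unit.app F))
    [PreservesFiniteColimits (EtCoh.push (h ≫ f))]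
    (Tr : EtCoh.pull (h ≫ f) ⋙ EtCoh.push (h ≫ f) ⟶ 𝟭 (EtCoh.Ab T))
    (hTr : (EtCoh.pullPushAdj (h ≫ f)).unit.app F ≫ Tr.app F = d • 𝟙 F)
    (hn : n • 𝟙 G = 0) (hc : Nat.Coprime n d) {Z : EtCoh.Ab T} (σ : Z ⟶ (EtCoh.Rpush f 1).obj G) :
    ∃ τ : Z ⟶ (EtCoh.push f).obj (injSES G).X₃, τ ≫ conn f (injSES_shortExact G) = σ := by
  obtain ⟨ρ, hρ⟩ := exists_trace_pull h f F d hu Tr hTr
  have hepi : Epi (conn f (injSES_shortExact G)) := epi_conn f (injSES_shortExact G)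
  have hn' : n • 𝟙 ((EtCoh.push f).obj G) = 0 := by
    have h1 := Functor.map_nsmul (F := EtCoh.push f) (f := 𝟙 G) (n := n)
    rw [hn, Functor.map_zero, CategoryTheory.Functor.map_id] at h1
    exact h1.symm
  refine LiftAbs.exists_lift (EtCoh.pushComp f h) (injSES_shortExact G) (conn f (injSES_shortExact G))
    (map_comp_conn f _) (exact_conn f _) (M := (EtCoh.pull h).obj ((EtCoh.pull f).obj F))
    (ε.inv ≫ (EtCoh.pullPushAdj h).unit.app ((EtCoh.pull f).obj F)) (ρ ≫ (EtCoh.push f).map ε.hom) d n ?_ hn' hc σ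
  have h2 : (EtCoh.push f).map ε.inv ≫ (EtCoh.push f).map ε.hom = 𝟙 _ := by
    rw [← Functor.map_comp, Iso.inv_hom_id, CategoryTheory.Functor.map_id]
  calc _ = (EtCoh.push f).map ε.inv ≫ ((EtCoh.push f).map ((EtCoh.pullPushAdj h).unit.app ((EtCoh.pull f).obj F)) ≫
        (EtCoh.pushComp f h).hom.app ((EtCoh.pull h).obj ((EtCoh.pull f).obj F)) ≫ ρ) ≫
          (EtCoh.push f).map ε.hom := by
        rw [Functor.map_comp]
        simp only [Category.assoc]
    _ = (EtCoh.push f).map ε.inv ≫ (d • 𝟙 _) ≫ (EtCoh.push f).map ε.hom := by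
        rw [hρ]
        rfl
    _ = d • ((EtCoh.push f).map ε.inv ≫ (EtCoh.push f).map ε.hom) := by
        rw [Preadditive.nsmul_comp, Category.id_comp, Preadditive.comp_nsmul]
    _ = _ := by rw [h2]

end Groth.Agent.Pi1.K344.PushLift
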