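import Groth.Agent.Pi1.K344.HpSurj2
import Groth.Agent.Pi1.K344.PushLift
import Groth.Agent.Lefpen.H719.H0Const
import Groth.Agent.Sga4B.BCDelta
import Groth.Agent.CurvesA.EtKilled
import Groth.Agent.Etrest.ConstBasic

/-!
# Surjectivity of `H¹(X, ℤ/n) ⟶ H¹(X_s, ℤ/n)` for smooth proper families with a multisection

* `surjective_unitSec_const`: sections of constant sheaves.
* `surjective_hp_fibre`: `f : X ⟶ S` smooth, proper, with geometrically irreducible fibres and a multisection of degree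
  prime to `n`, `R¹f_* (ℤ/n)` constant: then `H¹(X, ℤ/n) ⟶ H¹(X_s, ℤ/n)` is surjective for every geometric point `s`.
-/

set_option autoImplicit false
universe u

open CategoryTheory CategoryTheory.Limits AlgebraicGeometry Opposite Abelian

noncomputable section

namespace Groth.Agent.Pi1.K344.Core

open K557.BcAbs K557.BcQ K557.HpBc K557.DeltaCalc Groth.Agent.Localalg.DeltaFun Groth.Agent.Sga4B
  Groth.Agent.EtpbcB.BCCalc Groth.Agent.EtpbcB.BCIso Groth.Agent.Etcore.HpullCalc
open scoped Groth.Agent.Sga4B.EtAbInst Groth.Agent.Etcore.EtInst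
open Groth.Agent.Etcore.EtInst

theorem surjective_unitSec_const {T T' : Scheme.{u}} (ψ : T' ⟶ T) [ConnectedSpace T'] (M : Type)
    [AddCommGroup M] : Function.Surjective (unitSec ψ (EtCoh.const T M)) := by
  have h1 := constAdj_homEquiv_pullConstIso_inv' ψ (AddCommGrpCat.of (ULift.{u + 1} M))
  have h2 : Function.Surjective ((EtCore.constAdj T').unit.app (AddCommGrpCat.of (ULift.{u + 1} M))) :=
    Lefpen.H719.H0Const.unit_surjective T' (ULift.{u + 1} M)
  rw [Adjunction.homEquiv_unit] at h1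
  have h3 : Function.Surjective ((EtCore.gsec T').map
      ((EtCore.pullConstIso ψ).inv.app (AddCommGrpCat.of (ULift.{u + 1} M)))) :=
    (ConcreteCategory.bijective_of_isIso _).2
  intro y
  obtain ⟨x, hx⟩ := h3 y
  obtain ⟨m, hm⟩ := h2 x
  refine ⟨(EtCore.constAdj T).unit.app (AddCommGrpCat.of (ULift.{u + 1} M)) m, ?_⟩
  have h4 := congrArg (fun f => (ConcreteCategory.hom f) m) h1
  simp only [ConcreteCategory.comp_apply] at h4
  refine h4.symm.trans ?_
  rw [hm]
  exact hx

theorem surjective_unitSec_of_iso {T T' : Scheme.{u}} (ψ : T' ⟶ T) {F G : EtCoh.Ab T} (e : F ≅ G)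
    (h : Function.Surjective (unitSec ψ F)) : Function.Surjective (unitSec ψ G) := by
  intro y
  have h1 : (EtCore.gsec T).map e.hom ≫ unitSec ψ G =
      unitSec ψ F ≫ (EtCore.gsec T').map ((EtCoh.pull ψ).map e.hom) := (unitG ψ).naturality e.hom
  have h2 : Function.Surjective ((EtCore.gsec T').map ((EtCoh.pull ψ).map e.hom)) :=
    (ConcreteCategory.bijective_of_isIso _).2
  obtain ⟨x, hx⟩ := h2 y
  obtain ⟨z, hz⟩ := h x
  refine ⟨(EtCore.gsec T).map e.hom z, ?_⟩
  have h4 := congrArg (fun f => (ConcreteCategory.hom f) z) h1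
  simp only [ConcreteCategory.comp_apply] at h4
  rw [h4, hz]
  exact hx

theorem pfc_gsec_point (Ω : Type u) [Field Ω] [IsSepClosed Ω] :
    PreservesFiniteColimits (EtCore.gsec (Spec (CommRingCat.of Ω))) :=
  preservesFiniteColimits_of_natIso (Groth.Agent.EtpbcB.SepClosedPoint.gammaIsoStalk Ω).symm

theorem surjective_hp_fibre {X S : Scheme.{u}} (f : X ⟶ S) [Smooth f] [IsProper f]
    [GeometricallyIrreducible f] {Ω : Type u} [Field Ω] [IsSepClosed Ω] (s : Spec (CommRingCat.of Ω) ⟶ S)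
    {Xs : Scheme.{u}} {j : Xs ⟶ X} {q : Xs ⟶ Spec (CommRingCat.of Ω)} (H : IsPullback j q f s)
    {C : Scheme.{u}} (h : C ⟶ X) [IsFinite (h ≫ f)] [Flat (h ≫ f)] [LocallyOfFinitePresentation (h ≫ f)]
    (d : ℕ) (hd : ∀ s : S, (h ≫ f).finrank s = d) (n : ℕ) (hn : 0 < n) (hc : Nat.Coprime n d)
    (M : Type) [AddCommGroup M]
    (e : (EtCoh.Rpush f 1).obj (EtCoh.const X (ZMod n)) ≅ EtCoh.const S M) :
    Function.Surjective (hp j (EtCoh.const X (ZMod n)) 1) := by
  have hk : EtCoh.KilledBy n (EtCoh.const X (ZMod n)) :=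
    Etrest.ConstBasic.killedBy_const X (ZMod n) n
      (fun m => by rw [nsmul_eq_mul, ZMod.natCast_self, zero_mul])
  have hG : EtCoh.IsTorsion (EtCoh.const X (ZMod n)) := Etrest.ConstBasic.isTorsion_of_killedBy hn hk
  have hn0 : n • 𝟙 (EtCoh.const X (ZMod n)) = 0 := (CurvesA.EtKilled.killedBy_iff n _).1 hk
  have hb : IsIso (bq H.w 1 (EtCoh.const X (ZMod n))) :=
    (isIso_bq_iff H.w 1 _).2 (BCDelta.isIso_BC H 1 _ hG)
  have i1 : PreservesFiniteColimits (EtCore.gsec (Spec (CommRingCat.of Ω))) := pfc_gsec_point Ω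
  have hu : IsIso ((EtCoh.pullPushAdj f).unit.app (EtCoh.const S (ZMod n))) := Line.isIso_unit f _
  have i2 : PreservesFiniteColimits (EtCoh.push (h ≫ f)) := Sga4A.EtSplit.preservesFiniteColimits_push (h ≫ f)
  obtain ⟨Tr, hTr⟩ := Groth.Agent.S3106.result (h ≫ f) d hd
  refine HpSurj.surjective_hp_one H.w (EtCoh.const X (ZMod n)) hb
    (surjective_unitSec_of_iso s e.symm (surjective_unitSec_const s M)) fun σ => ?_
  exact PushLift.exists_lift_conn h f (EtCoh.const S (ZMod n)) (EtCoh.const X (ZMod n))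
    (EtCore.pullConst f (ZMod n)) d n hu Tr (hTr _) hn0 hc σ

end Groth.Agent.Pi1.K344.Core
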