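import Groth.Agent.SGA4h.K557.GammaAbs

/-!
# The first edge map and base change, abstract form

* `edge_abs`: with `H`, `H'` delta functors on `A`, `A'`, `Hp : H ⟶ H' ∘ L`, `K' : H' ⟶ G' ∘ R^•Φ₂` and
  `k : H^0 ⟶ G ∘ Ψ` (`G` arbitrary), a class `∂ x` with `x : H^0 (S.X₃)` is sent to the base change of the section
  `δ (k x)` of `R¹Ψ (S.X₁)`.
-/

set_option autoImplicit false
set_option backward.isDefEq.respectTransparency false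
universe v₁ v₂ v₃ v₄ v₅ u₁ u₂ u₃ u₄ u₅

open CategoryTheory CategoryTheory.Limits

noncomputable section

namespace Groth.Agent.Pi1.K344.EdgeAbs

open Groth.Agent.Localalg.DeltaFun K557.DeltaCalc K557.BcAbs

attribute [local instance] comp_preservesFiniteLimits comp_preservesFiniteColimits

variable {A : Type u₁} [Category.{v₁} A] [Abelian A] [EnoughInjectives A]
  {A' : Type u₂} [Category.{v₂} A'] [Abelian A'] [HasInjectiveResolutions A']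
  {B : Type u₃} [Category.{v₃} B] [Abelian B]
  {B' : Type u₄} [Category.{v₄} B'] [Abelian B'] {C : Type u₅} [Category.{v₅} C] [Abelian C]
  {Φ : A' ⥤ A} [Φ.Additive] [Φ.PreservesInjectiveObjects] {Ψ : A ⥤ B} [Ψ.Additive]
  {Φ₂ : A' ⥤ B'} [Φ₂.Additive] {Ψ₂ : B' ⥤ B} [Ψ₂.Additive] [PreservesFiniteLimits Ψ₂]
  (e : Φ ⋙ Ψ ≅ Φ₂ ⋙ Ψ₂) {L : A ⥤ A'} {L₂ : B ⥤ B'} (adj : L ⊣ Φ) (adj₂ : L₂ ⊣ Ψ₂)
  [L.Additive] [PreservesFiniteLimits L] [PreservesFiniteColimits L]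
  {H : DeltaFunctor A C} {H' : DeltaFunctor A' C}
  {G : B ⥤ C}
  {G' : B' ⥤ C} [G'.Additive] [PreservesFiniteLimits G'] [PreservesFiniteColimits G']
  (K' : DeltaHom H' ((chainD Φ₂).postcomp G'))
  (η : G ⟶ L₂ ⋙ G') (Hp : DeltaHom H (H'.precomp L))

theorem edge_abs (k : ∀ F : A, (H.T 0).obj F ⟶ G.obj (Ψ.obj F))
    (k' : ∀ F : A', (H'.T 0).obj F ⟶ G'.obj (Φ₂.obj F))
    (hk' : ∀ F, (K'.app 0).app F = k' F ≫ G'.map (Φ₂.toRightDerivedZero.app F))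
    (h0 : ∀ F : A, (Hp.app 0).app F ≫ k' (L.obj F) =
      k F ≫ η.app (Ψ.obj F) ≫ G'.map (bcz e adj adj₂ F)) {S : ShortComplex A} (hS : S.ShortExact) :
    H.δ hS 0 ≫ (Hp.app 1).app S.X₁ ≫ (K'.app 1).app (L.obj S.X₁) =
      k S.X₃ ≫ G.map (Ψ.toRightDerivedZero.app S.X₃ ≫ (chainD Ψ).δ hS 0) ≫
        η.app ((Ψ.rightDerived 1).obj S.X₁) ≫ G'.map (bc e adj adj₂ 1 S.X₁) := by
  have e1 : (Hp.app 0).app S.X₃ ≫ (H'.precomp L).δ hS 0 = H.δ hS 0 ≫ (Hp.app 1).app S.X₁ := Hp.comm hS 0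
  have e2 : (K'.app 0).app (L.obj S.X₃) ≫ G'.map ((chainD Φ₂).δ (hS.map_of_exact L) 0) =
      H'.δ (hS.map_of_exact L) 0 ≫ (K'.app 1).app (L.obj S.X₁) := K'.comm (hS.map_of_exact L) 0
  have e3 := toRDZ_bc e adj adj₂ S.X₃
  have e4 := bc_δ e adj adj₂ hS 0
  have e5 : G.map (Ψ.toRightDerivedZero.app S.X₃ ≫ (chainD Ψ).δ hS 0) ≫
        η.app ((Ψ.rightDerived 1).obj S.X₁) =
      η.app (Ψ.obj S.X₃) ≫ G'.map (L₂.map (Ψ.toRightDerivedZero.app S.X₃ ≫ (chainD Ψ).δ hS 0)) :=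
    η.naturality _
  calc H.δ hS 0 ≫ (Hp.app 1).app S.X₁ ≫ (K'.app 1).app (L.obj S.X₁)
      = (H.δ hS 0 ≫ (Hp.app 1).app S.X₁) ≫ (K'.app 1).app (L.obj S.X₁) := (Category.assoc _ _ _).symm
    _ = ((Hp.app 0).app S.X₃ ≫ (H'.precomp L).δ hS 0) ≫ (K'.app 1).app (L.obj S.X₁) :=
        congrArg (· ≫ _) e1.symm
    _ = (Hp.app 0).app S.X₃ ≫ H'.δ (hS.map_of_exact L) 0 ≫ (K'.app 1).app (L.obj S.X₁) :=
        Category.assoc _ _ _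
    _ = (Hp.app 0).app S.X₃ ≫ (K'.app 0).app (L.obj S.X₃) ≫
          G'.map ((chainD Φ₂).δ (hS.map_of_exact L) 0) := congrArg (_ ≫ ·) e2.symm
    _ = (Hp.app 0).app S.X₃ ≫ (k' (L.obj S.X₃) ≫ G'.map (Φ₂.toRightDerivedZero.app (L.obj S.X₃))) ≫
          G'.map ((chainD Φ₂).δ (hS.map_of_exact L) 0) := by rw [hk']
    _ = ((Hp.app 0).app S.X₃ ≫ k' (L.obj S.X₃)) ≫ G'.map (Φ₂.toRightDerivedZero.app (L.obj S.X₃)) ≫
          G'.map ((chainD Φ₂).δ (hS.map_of_exact L) 0) := by simp only [Category.assoc]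
    _ = (k S.X₃ ≫ η.app (Ψ.obj S.X₃) ≫ G'.map (bcz e adj adj₂ S.X₃)) ≫
          G'.map (Φ₂.toRightDerivedZero.app (L.obj S.X₃)) ≫
          G'.map ((chainD Φ₂).δ (hS.map_of_exact L) 0) := congrArg (· ≫ _) (h0 S.X₃)
    _ = k S.X₃ ≫ η.app (Ψ.obj S.X₃) ≫ G'.map ((bcz e adj adj₂ S.X₃ ≫
          Φ₂.toRightDerivedZero.app (L.obj S.X₃)) ≫ (chainD Φ₂).δ (hS.map_of_exact L) 0) := by
        simp only [Category.assoc, Functor.map_comp]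
    _ = k S.X₃ ≫ η.app (Ψ.obj S.X₃) ≫ G'.map ((L₂.map (Ψ.toRightDerivedZero.app S.X₃) ≫
          bc e adj adj₂ 0 S.X₃) ≫ (chainD Φ₂).δ (hS.map_of_exact L) 0) := by rw [e3]
    _ = k S.X₃ ≫ η.app (Ψ.obj S.X₃) ≫ G'.map (L₂.map (Ψ.toRightDerivedZero.app S.X₃) ≫
          (bc e adj adj₂ 0 S.X₃ ≫ (chainD Φ₂).δ (hS.map_of_exact L) 0)) := by rw [Category.assoc]
    _ = k S.X₃ ≫ η.app (Ψ.obj S.X₃) ≫ G'.map (L₂.map (Ψ.toRightDerivedZero.app S.X₃) ≫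
          (L₂.map ((chainD Ψ).δ hS 0) ≫ bc e adj adj₂ 1 S.X₁)) :=
        congrArg (fun z => k S.X₃ ≫ η.app (Ψ.obj S.X₃) ≫ G'.map (L₂.map (Ψ.toRightDerivedZero.app S.X₃) ≫ z)) e4.symm
    _ = k S.X₃ ≫ (η.app (Ψ.obj S.X₃) ≫ G'.map (L₂.map (Ψ.toRightDerivedZero.app S.X₃ ≫
          (chainD Ψ).δ hS 0))) ≫ G'.map (bc e adj adj₂ 1 S.X₁) := by
        rw [L₂.map_comp, G'.map_comp, G'.map_comp, G'.map_comp]
        simp only [Category.assoc]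
    _ = k S.X₃ ≫ (G.map (Ψ.toRightDerivedZero.app S.X₃ ≫ (chainD Ψ).δ hS 0) ≫
        η.app ((Ψ.rightDerived 1).obj S.X₁)) ≫ G'.map (bc e adj adj₂ 1 S.X₁) :=
        congrArg (fun z => k S.X₃ ≫ z ≫ G'.map (bc e adj adj₂ 1 S.X₁)) e5.symm
    _ = _ := by simp only [Category.assoc]

end Groth.Agent.Pi1.K344.EdgeAbs
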