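import Groth.Agent.Cyc.K309.FlatFin
import Groth.Agent.Surf.K456.FlatCurve
import Groth.Agent.Variety.K432.CurveLift
import Groth.Agent.Ega1.ReducedSub
import Mathlib.AlgebraicGeometry.Morphisms.FlatRank

/-!
# Multisections of proper morphisms to a regular curve

* `exists_multisection`: `f : X ⟶ S` proper, `S` an integral regular scheme of dimension at most one, `f` dominant:
  there is `i : C ⟶ X` with `i ≫ f` finite, flat, of finite presentation and of constant positive rank.
-/

set_option autoImplicit false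
universe u

open CategoryTheory CategoryTheory.Limits AlgebraicGeometry TopologicalSpace Topology

namespace Groth.Agent.Pi1.K344.MultiSec

open Groth.Agent.CycB Groth.Agent.CycB.RelDim

variable {X S : Scheme.{u}}

/-- The reduced closed subscheme `closure {ζ}`. -/
theorem exists_closure_family (ζ : X) :
    ∃ (W : Scheme.{u}) (j : W ⟶ X) (ξ : W), IsClosedImmersion j ∧ IsReduced W ∧
      IrreducibleSpace W ∧ j ξ = ζ ∧ (∀ w : W, ξ ⤳ w) := by
  let Z : Closeds X := ⟨closure {ζ}, isClosed_closure⟩
  let W := (Scheme.IdealSheafData.vanishingIdeal Z).subscheme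
  let j : W ⟶ X := (Scheme.IdealSheafData.vanishingIdeal Z).subschemeι
  have hr : Set.range j = closure {ζ} := by
    rw [Scheme.IdealSheafData.range_subschemeι]
    exact Scheme.IdealSheafData.coe_support_vanishingIdeal _
  have hred : IsReduced W := Groth.Agent.Ega1.ReducedSub.isReduced_subscheme_vanishingIdeal Z
  obtain ⟨ξ, hξ⟩ : ζ ∈ Set.range j := by rw [hr]; exact subset_closure rfl
  have hξall : ∀ w : W, ξ ⤳ w := by
    intro w
    refine j.isClosedEmbedding.isInducing.specializes_iff.mp ?_
    have h9 : j w ∈ Set.range j := ⟨w, rfl⟩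
    rw [hr] at h9
    rw [hξ]
    exact specializes_iff_mem_closure.mpr h9
  have hirr : IrreducibleSpace W := by
    have h1 : IsIrreducible (closure {ξ} : Set W) := isIrreducible_singleton.closure
    have h2 : closure {ξ} = (Set.univ : Set W) :=
      Set.eq_univ_of_forall fun t => specializes_iff_mem_closure.mp (hξall t)
    rw [h2] at h1
    exact (irreducibleSpace_def _).2 h1
  exact ⟨W, j, ξ, inferInstance, hred, hirr, hξ, hξall⟩

theorem exists_multisection [IsIntegral S] [IsLocallyNoetherian S]
    (hreg : ∀ y : S, IsRegularLocalRing (S.presheaf.stalk y)) (hdim : topologicalKrullDim S ≤ 1)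
    (f : X ⟶ S) [IsProper f] (hx : ∃ x, f x = genericPoint S) :
    ∃ (C : Scheme.{u}) (i : C ⟶ X) (d : ℕ), 0 < d ∧ IsFinite (i ≫ f) ∧ Flat (i ≫ f) ∧
      LocallyOfFinitePresentation (i ≫ f) ∧ ∀ s : S, (i ≫ f).finrank s = d := by
  obtain ⟨ζ, hζ, hζ0⟩ := K432.CurveLift.exists_rtd_eq_zero f (genericPoint S) hx
  obtain ⟨C, i, ξ, hi, hred, hirr, hiξ, hξ⟩ := exists_closure_family ζ
  have hint : IsIntegral C := isIntegral_of_irreducibleSpace_of_isReduced C
  have hgen : genericPoint C = ξ := by
    refine ((genericPoint_spec C).eq ?_)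
    rw [isGenericPoint_def]
    exact Set.eq_univ_of_forall fun t => specializes_iff_mem_closure.mp (hξ t)
  have hdom : IsDominant (i ≫ f) := by
    constructor
    rw [denseRange_iff_closure_range]
    refine Set.eq_univ_of_forall fun s => ?_
    have h1 : genericPoint S ∈ Set.range (i ≫ f) := by
      refine ⟨ξ, ?_⟩
      rw [Scheme.Hom.comp_apply, hiξ, hζ]
    exact closure_mono (Set.singleton_subset_iff.2 h1) (specializes_iff_mem_closure.mp (genericPoint_specializes s))
  have hflat : Flat (i ≫ f) := K456.FlatCurve.flat_of_dominant (i ≫ f) hreg hdim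
  have hrtd : rtd (i ≫ f) (genericPoint C) = 0 := by
    rw [hgen, rtd_comp, hiξ, hζ0, rtd_eq_zero_of_isPreimmersion, add_zero]
  have hfin : IsFinite (i ≫ f) := K309.FlatFin.isFinite_of_flat (i ≫ f) hrtd
  have hsurj : Surjective (i ≫ f) := K309.FlatFin.surjective_of_flat (i ≫ f)
  have hlfp : LocallyOfFinitePresentation (i ≫ f) :=
    LocallyOfFinitePresentation.iff_locallyOfFiniteType.2 inferInstance
  have hlc := Scheme.Hom.isLocallyConstant_finrank (i ≫ f)
  refine ⟨C, i, (i ≫ f).finrank (genericPoint S), ?_, hfin, hflat, hlfp, fun s => ?_⟩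
  · exact ((Scheme.Hom.one_le_finrank_iff_surjective (i ≫ f)).2 hsurj) (genericPoint S)
  · exact hlc.apply_eq_of_preconnectedSpace _ _

end Groth.Agent.Pi1.K344.MultiSec
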