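import Groth.Agent.Pi1.K344.Core
import Groth.Agent.Pi1.K344.MultiSec
import Groth.Agent.Vancyc.H566.GalTriv
import Groth.Agent.Surf.K456.FibDiv
import Groth.Agent.PicF.K247.SmoothGI
import Mathlib.AlgebraicGeometry.AlgClosed.Basic

/-!
# Good liftings of classes in `H¹` of the fibres of a smooth proper family over a curve: assembly
-/

set_option autoImplicit false
universe u

open CategoryTheory CategoryTheory.Limits AlgebraicGeometry Opposite Abelian

noncomputable section

namespace Groth.Agent.Pi1.K344.Final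

open K557.BcQ Groth.Agent.Sga4B Groth.Agent.Etcore.HpullCalc
open scoped Groth.Agent.Sga4B.EtAbInst Groth.Agent.Etcore.EtInst
open Groth.Agent.Etcore.EtInst

/-- A non-empty scheme locally of finite type over an algebraically closed field has a rational point. -/
theorem exists_rat {Ω : Type u} [Field Ω] [IsAlgClosed Ω] {Z : Scheme.{u}} (p : Z ⟶ Spec (CommRingCat.of Ω))
    [LocallyOfFiniteType p] [Nonempty Z] : ∃ s : Spec (CommRingCat.of Ω) ⟶ Z, s ≫ p = 𝟙 _ := by
  have hJ : JacobsonSpace Z := LocallyOfFiniteType.jacobsonSpace p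
  obtain ⟨x₀, hx₀⟩ : (closedPoints Z).Nonempty := by
    have h := nonempty_inter_closedPoints (X := Z) (Z := Set.univ) Set.univ_nonempty
      isClosed_univ.isLocallyClosed
    rwa [Set.univ_inter] at h
  exact ⟨pointOfClosedPoint p x₀ hx₀, pointOfClosedPoint_comp p x₀ hx₀⟩

/-- Lifts of algebraically closed points along a surjective morphism locally of finite type. -/
theorem exists_lift_point {X S : Scheme.{u}} (f : X ⟶ S) [LocallyOfFiniteType f] [Surjective f] {Ω : Type u}
    [Field Ω] [IsAlgClosed Ω] (s : Spec (CommRingCat.of Ω) ⟶ S) :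
    ∃ x : Spec (CommRingCat.of Ω) ⟶ X, x ≫ f = s := by
  have hne : Nonempty ↥(pullback f s) := by
    obtain ⟨y, -⟩ := (pullback.snd f s).surjective (default : ↥(Spec (CommRingCat.of Ω)))
    exact ⟨y⟩
  obtain ⟨r, hr⟩ := exists_rat (pullback.snd f s)
  refine ⟨r ≫ pullback.fst f s, ?_⟩
  rw [Category.assoc, pullback.condition, ← Category.assoc, hr, Category.id_comp]

theorem killedBy_const (X : Scheme.{u}) (n : ℕ) : EtCoh.KilledBy n (EtCoh.const X (ZMod n)) :=
  Etrest.ConstBasic.killedBy_const X (ZMod n) n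
    (fun m => by rw [nsmul_eq_mul, ZMod.natCast_self, zero_mul])

/-- **Good liftings over the cover trivialising `R¹f_* (ℤ/n)`.** -/
theorem surjective_of_cover {X S : Scheme.{u}} (f : X ⟶ S) [Smooth f] [IsProper f]
    [GeometricallyIrreducible f] {C : Scheme.{u}} (i : C ⟶ X) [IsFinite (i ≫ f)] [Flat (i ≫ f)]
    [LocallyOfFinitePresentation (i ≫ f)] (d : ℕ) (hd : ∀ s : S, (i ≫ f).finrank s = d) (n : ℕ) (hn : 0 < n)
    (hc : Nat.Coprime n d) {V : Scheme.{u}} (v : V ⟶ S) (M : Type) [AddCommGroup M]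
    (e : (EtCoh.pull v).obj ((EtCoh.Rpush f 1).obj (EtCoh.const X (ZMod n))) ≅ EtCoh.const V M)
    {Ω : Type u} [Field Ω] [IsSepClosed Ω] (s : Spec (CommRingCat.of Ω) ⟶ V)
    {Xs : Scheme.{u}} {j : Xs ⟶ pullback f v} {q : Xs ⟶ Spec (CommRingCat.of Ω)}
    (H : IsPullback j q (pullback.snd f v) s) :
    Function.Surjective (hp j (EtCoh.const (pullback f v) (ZMod n)) 1) := by
  have hG : EtCoh.IsTorsion (EtCoh.const X (ZMod n)) :=
    Etrest.ConstBasic.isTorsion_of_killedBy hn (killedBy_const X n)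
  have H₁ : IsPullback (pullback.fst f v) (pullback.snd f v) f v := IsPullback.of_hasPullback f v
  have hb : IsIso (bq H₁.w 1 (EtCoh.const X (ZMod n))) :=
    (isIso_bq_iff H₁.w 1 _).2 (BCDelta.isIso_BC H₁ 1 _ hG)
  let e' : (EtCoh.Rpush (pullback.snd f v) 1).obj (EtCoh.const (pullback f v) (ZMod n)) ≅ EtCoh.const V M :=
    ((EtCoh.Rpush (pullback.snd f v) 1).mapIso (EtCore.pullConst (pullback.fst f v) (ZMod n))).symm ≪≫
      (asIso (bq H₁.w 1 (EtCoh.const X (ZMod n)))).symm ≪≫ e
  let h : pullback (i ≫ f) v ⟶ pullback f v :=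
    pullback.lift (pullback.fst (i ≫ f) v ≫ i) (pullback.snd (i ≫ f) v)
      (by rw [Category.assoc, pullback.condition])
  have hh : h ≫ pullback.snd f v = pullback.snd (i ≫ f) v := pullback.lift_snd _ _ _
  have i1 : IsFinite (h ≫ pullback.snd f v) := by rw [hh]; infer_instance
  have i2 : Flat (h ≫ pullback.snd f v) := by rw [hh]; infer_instance
  have i3 : LocallyOfFinitePresentation (h ≫ pullback.snd f v) := by rw [hh]; infer_instance
  refine Core.surjective_hp_fibre (pullback.snd f v) s H h d (fun y => ?_) n hn hc M e'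
  have h1 := Scheme.Hom.finrank_pullback_snd (i ≫ f) v y
  rw [hd] at h1
  rw [← h1]
  congr 1

/-- An integer invertible in `k` is invertible on a `k`-scheme. -/
theorem isUnit_natCast {k : Type u} [Field k] {X : Scheme.{u}} (f : X ⟶ Spec (CommRingCat.of k)) (N : ℕ)
    (hN : (N : k) ≠ 0) : IsUnit (N : Γ(X, ⊤)) := by
  have h := (IsUnit.mk0 _ hN).map ((Scheme.ΓSpecIso (CommRingCat.of k)).inv ≫ f.appTop).hom
  rwa [map_natCast] at h

theorem natCast_ne_zero {k : Type u} [Field k] (p : ℕ) [Fact p.Prime] [CharP k p] (n : ℕ)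
    (h : Nat.Coprime n p) : (n : k) ≠ 0 := by
  intro h0
  have h1 : p ∣ n := (CharP.cast_eq_zero_iff k p n).1 h0
  have h2 : p ∣ 1 := h ▸ Nat.dvd_gcd h1 dvd_rfl
  exact (Fact.out : p.Prime).one_lt.ne' (Nat.dvd_one.1 h2)

/-- The assembled statement, given that `R¹f_* (ℤ/n)` is locally constant. -/
theorem main (k : Type u) [Field k] [IsAlgClosed k] (p : ℕ) [Fact p.Prime] [CharP k p]
    (S : Scheme.{u}) (t : S ⟶ Spec (CommRingCat.of k)) [Smooth t]
    [AlgebraicGeometry.IsIntegral S] (hdimS : topologicalKrullDim ↥S = 1)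
    (X : Scheme.{u}) (f : X ⟶ S) [Smooth f] [IsProper f] [GeometricallyIrreducible f]
    (hR : ∀ n : ℕ, IsUnit (n : Γ(S, ⊤)) → EtCoh.KilledBy n (EtCoh.const X (ZMod n)) →
      EtCoh.IsFiniteLocallyConstant (EtCoh.const X (ZMod n)) →
      EtCoh.IsFiniteLocallyConstant ((EtCoh.Rpush f 1).obj (EtCoh.const X (ZMod n)))) :
    ∃ d : ℕ, 0 < d ∧ ∀ (n : ℕ), Nat.Coprime n p → Nat.Coprime n d →
      ∀ (s : Spec (CommRingCat.of k) ⟶ S),
      ∀ (Xs : Scheme.{u}) (i : Xs ⟶ X) (q : Xs ⟶ Spec (CommRingCat.of k)), IsPullback i q f s →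
      ∃ (S' : Scheme.{u}) (h : S' ⟶ S) (_ : IsFinite h) (_ : Etale h) (_ : AlgebraicGeometry.IsIntegral S')
        (s' : Spec (CommRingCat.of k) ⟶ S') (_ : s' ≫ h = s),
        ∀ (j : Xs ⟶ pullback f h), j ≫ pullback.fst f h = i → j ≫ pullback.snd f h = q ≫ s' →
          Function.Surjective (hp j (EtCoh.const (pullback f h) (ZMod n)) 1) := by
  have hln : IsLocallyNoetherian S := LocallyOfFiniteType.isLocallyNoetherian t
  have hsurj : Surjective f := by
    constructor
    intro y
    have h1 : Nonempty ↥(pullback f (S.fromSpecResidueField y)) := by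
      have : IrreducibleSpace ↥(pullback f (S.fromSpecResidueField y)) :=
        GeometricallyIrreducible.geometrically_irreducibleSpace (f := f) (S.fromSpecResidueField y) _ _
          (IsPullback.of_hasPullback f (S.fromSpecResidueField y))
      infer_instance
    obtain ⟨z⟩ := h1
    refine ⟨pullback.fst f (S.fromSpecResidueField y) z, ?_⟩
    have h2 : f (pullback.fst f (S.fromSpecResidueField y) z) =
        (S.fromSpecResidueField y) (pullback.snd f (S.fromSpecResidueField y) z) := by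
      rw [← Scheme.Hom.comp_apply, pullback.condition, Scheme.Hom.comp_apply]
    rw [h2]
    have h3 : S.fromSpecResidueField y (pullback.snd f (S.fromSpecResidueField y) z) ∈
        Set.range (S.fromSpecResidueField y) := ⟨_, rfl⟩
    rwa [Scheme.range_fromSpecResidueField, Set.mem_singleton_iff] at h3
  obtain ⟨C, i₀, d, hd0, hfin, hflat, hlfp, hd⟩ := MultiSec.exists_multisection
    (fun y => K456.FibDiv.isRegular_of_smooth t y) hdimS.le f (f.surjective _)
  refine ⟨d, hd0, fun n hnp hnd s Xs i q H => ?_⟩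
  have hn0 : (n : k) ≠ 0 := natCast_ne_zero p n hnp
  have hn : 0 < n := Nat.pos_of_ne_zero (by rintro rfl; exact hn0 Nat.cast_zero)
  have : NeZero n := ⟨hn.ne'⟩
  have hlc := hR n (isUnit_natCast t n hn0) (killedBy_const X n)
    (Etrest.ConstBasic.isFiniteLocallyConstant_const X (ZMod n))
  obtain ⟨V, -, hconn, hsurjV, M, _, _, ⟨e⟩⟩ := Vancyc.H566.GalTriv.exists_gal_const _ hlc
  have hV1 : IsFinite V.hom := V.prop.1
  have hV2 : Etale V.hom := V.prop.2
  have hsm : Smooth (V.hom ≫ t) := inferInstance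
  have hint : IsIntegral V.left := K247.SmoothGI.isIntegral_of_smooth (V.hom ≫ t)
  obtain ⟨s', hs'⟩ := exists_lift_point V.hom s
  refine ⟨V.left, V.hom, hV1, hV2, hint, s', hs', fun j hj1 hj2 => ?_⟩
  have H₁ : IsPullback (pullback.fst f V.hom) (pullback.snd f V.hom) f V.hom := IsPullback.of_hasPullback f V.hom
  have H₂ : IsPullback j q (pullback.snd f V.hom) s' := by
    refine IsPullback.of_right ?_ hj2 H₁
    rw [hj1, hs']
    exact H
  exact surjective_of_cover f i₀ d hd n hn hnd V.hom M e s' H₂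

/-- Translation to `EtCore.Hpull` and the constant sheaf. -/
theorem exists_class {Y Z : Scheme.{u}} (j : Y ⟶ Z) {n : ℕ}
    (h : Function.Surjective (hp j (EtCoh.const Z (ZMod n)) 1)) (c : EtCoh.H Y (EtCoh.const Y (ZMod n)) 1) :
    ∃ c' : EtCoh.H Z (EtCoh.const Z (ZMod n)) 1, ∀ [PreservesFiniteLimits (EtCoh.pull j)],
      ((EtCoh.HF Y 1).map (EtCore.pullConst j (ZMod n)).hom).hom
        (EtCore.Hpull j (EtCoh.const Z (ZMod n)) 1 c') = c := by
  obtain ⟨c₁, hc₁⟩ := (HHmap_bijective (EtCore.pullConst j (ZMod n)).hom 1).2 c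
  obtain ⟨c', hc'⟩ := h c₁
  refine ⟨c', ?_⟩
  intro _
  have h1 : @Eq (HH Y ((EtCoh.pull j).obj (EtCoh.const Z (ZMod n))) 1)
      (EtCore.Hpull j (EtCoh.const Z (ZMod n)) 1 c') c₁ := hc'
  refine Eq.trans ?_ hc₁
  exact congrArg (fun x => HHmap (EtCore.pullConst j (ZMod n)).hom 1 x) h1

end Groth.Agent.Pi1.K344.Final
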