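import Groth.Agent.SGA4h.K557.StrictBc
import Groth.Agent.Pi1.K344.EdgeAbs

/-!
# Surjectivity of the restriction of classes in `H¹` to a fibre

* `kap_hp_extClass`: edge map and base change for classes `∂ x`.
* `surjective_hp_one`: for a square `m ≫ p = p' ≫ ψ` with `Γ(T', -)` exact, `H¹(P, G) ⟶ H¹(P', m⁻¹G)` is surjective if
  the degree one base change map is an isomorphism, every section of `ψ⁻¹ R¹p_* G` comes from a section of `R¹p_* G`,
  and every section of `R¹p_* G` lifts to a section of `p_*(J/G)` (`G ⊂ J` injective).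
-/

set_option autoImplicit false
universe u

open CategoryTheory CategoryTheory.Limits AlgebraicGeometry Opposite

noncomputable section

namespace Groth.Agent.Pi1.K344.HpSurj

open K557.BcAbs K557.BcQ K557.HpBc K557.DeltaCalc Groth.Agent.Localalg.DeltaFun Groth.Agent.Sga4B
  Groth.Agent.EtpbcB.BCCalc Groth.Agent.EtpbcB.BCIso Groth.Agent.Etcore.HpullCalc
open scoped Groth.Agent.Sga4B.EtAbInst Groth.Agent.Etcore.EtInst
open Groth.Agent.Etcore.EtInst

attribute [local instance] comp_preservesFiniteLimits comp_preservesFiniteColimits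

variable {P T P' T' : Scheme.{u}} {p : P ⟶ T} {ψ : T' ⟶ T} {p' : P' ⟶ T'} {m : P' ⟶ P}
  [PreservesFiniteLimits (EtCore.gsec T')] [PreservesFiniteColimits (EtCore.gsec T')]
  [(EtCore.gsec T').Additive]

/-- The connecting map `p_* (S.X₃) ⟶ R¹p_* (S.X₁)`. -/
def conn (p : P ⟶ T) {S : ShortComplex (EtCoh.Ab P)} (hS : S.ShortExact) :
    (EtCoh.push p).obj S.X₃ ⟶ (EtCoh.Rpush p 1).obj S.X₁ :=
  (EtCoh.push p).toRightDerivedZero.app S.X₃ ≫ (chainD (EtCoh.push p)).δ hS 0

theorem edge (w : m ≫ p = p' ≫ ψ) {S : ShortComplex (EtCoh.Ab P)} (hS : S.ShortExact) :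
    (hD P).δ hS 0 ≫ AddCommGrpCat.ofHom (hp m S.X₁ 1) ≫ kap p' 1 ((EtCoh.pull m).obj S.X₁) =
      (kap0 p).hom.app S.X₃ ≫ (EtCore.gsec T).map (conn p hS) ≫
        unitSec ψ ((EtCoh.Rpush p 1).obj S.X₁) ≫ (EtCore.gsec T').map (bq w 1 S.X₁) :=
  EdgeAbs.edge_abs (sqIso w) (EtCoh.pullPushAdj m) (EtCoh.pullPushAdj ψ) (kapD p') (unitG ψ) (hpD m)
    (fun F => (kap0 p).hom.app F) (fun F => (kap0 p').hom.app F) (kapD_zero p') (fun F => sq_zero w F) hS

end Groth.Agent.Pi1.K344.HpSurj
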