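import Groth.Agent.Pi1.K344.HpSurj

/-!
# Surjectivity of the restriction of classes in `H¹` to a fibre, II
-/

set_option autoImplicit false
universe u

open CategoryTheory CategoryTheory.Limits AlgebraicGeometry Opposite Abelian

noncomputable section

namespace Groth.Agent.Pi1.K344.HpSurj

open K557.BcAbs K557.BcQ K557.HpBc K557.DeltaCalc Groth.Agent.Localalg.DeltaFun Groth.Agent.Sga4B
  Groth.Agent.EtpbcB.BCCalc Groth.Agent.EtpbcB.BCIso Groth.Agent.Etcore.HpullCalc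
open scoped Groth.Agent.Sga4B.EtAbInst Groth.Agent.Etcore.EtInst
open Groth.Agent.Etcore.EtInst

attribute [local instance] comp_preservesFiniteLimits comp_preservesFiniteColimits

/-- Sections of the target of a map `φ` lift if morphisms from `ℤ` do. -/
theorem exists_gsec {T : Scheme.{u}} {E K : EtCoh.Ab T} (φ : E ⟶ K)
    (h : ∀ σ : EtCoh.const T ℤ ⟶ K, ∃ τ : EtCoh.const T ℤ ⟶ E, τ ≫ φ = σ) (s : (EtCore.gsec T).obj K) :
    ∃ z : (EtCore.gsec T).obj E, (EtCore.gsec T).map φ z = s := by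
  obtain ⟨σ, hσ⟩ := (Ext.mk₀_bijective (EtCoh.const T ℤ) K).2 ((H0 T K).symm s)
  obtain ⟨τ, hτ⟩ := h σ
  refine ⟨H0 T E (Ext.mk₀ τ), ?_⟩
  have h1 : HHmap φ 0 (Ext.mk₀ τ) = Ext.mk₀ σ := by
    rw [HHmap_apply, Ext.mk₀_comp_mk₀, hτ]
  have h2 := H0_map φ (Ext.mk₀ τ)
  rw [h1, hσ, (H0 T K).apply_symm_apply s] at h2
  exact h2.symm

variable {P T P' T' : Scheme.{u}} {p : P ⟶ T} {ψ : T' ⟶ T} {p' : P' ⟶ T'} {m : P' ⟶ P}
  [PreservesFiniteLimits (EtCore.gsec T')] [PreservesFiniteColimits (EtCore.gsec T')]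
  [(EtCore.gsec T').Additive]

theorem surjective_hp_one (w : m ≫ p = p' ≫ ψ) (G : EtCoh.Ab P) (hb : IsIso (bq w 1 G))
    (hu : Function.Surjective (unitSec ψ ((EtCoh.Rpush p 1).obj G)))
    (hl : ∀ σ : EtCoh.const T ℤ ⟶ (EtCoh.Rpush p 1).obj G,
      ∃ τ : EtCoh.const T ℤ ⟶ (EtCoh.push p).obj (injSES G).X₃, τ ≫ conn p (injSES_shortExact G) = σ) :
    Function.Surjective (hp m G 1) := by
  intro c
  have i1 : IsIso ((EtCore.gsec T').map (bq w 1 G)) := inferInstance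
  obtain ⟨x, hx⟩ := (ConcreteCategory.bijective_of_isIso ((EtCore.gsec T').map (bq w 1 G))).2
    (kap p' 1 ((EtCoh.pull m).obj G) c)
  obtain ⟨σ, hσ⟩ := hu x
  obtain ⟨z, hz⟩ := exists_gsec _ hl σ
  obtain ⟨x0, hx0⟩ := (ConcreteCategory.bijective_of_isIso ((kap0 p).hom.app (injSES G).X₃)).2 z
  refine ⟨(hD P).δ (injSES_shortExact G) 0 x0, ?_⟩
  apply (ConcreteCategory.bijective_of_isIso (kap p' 1 ((EtCoh.pull m).obj G))).1
  have key := congrArg (fun f => (ConcreteCategory.hom f) x0) (edge w (injSES_shortExact G))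
  simp only [ConcreteCategory.comp_apply] at key
  refine key.trans ?_
  rw [hx0, hz, hσ]
  exact hx

end Groth.Agent.Pi1.K344.HpSurj
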